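import Groth.Prelude.Def_GrLC
import Groth.Agent.GrInj.Acyclic
import Groth.Agent.LocCohBasic.TopDegree

/-!
# The top graded local cohomology of a standard graded ring is generated from above
-/

set_option autoImplicit false
set_option maxHeartbeats 1000000
universe u

open CategoryTheory LocCoh DirectSum Groth.Agent.GrInj

namespace Groth.Agent.GrTopLib

theorem mem_smul_top_of_pos {R : Type u} [CommRing R] [IsNoetherianRing R] (I m : Ideal R) (r : ℕ)
    (hr : ringKrullDim R = r) (hm : Module.supportDim R (R ⧸ m) < (r : WithBot ℕ∞))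
    (z : (localCohomology I r).obj (ModuleCat.of R R)) :
    z ∈ m • (⊤ : Submodule R ((localCohomology I r).obj (ModuleCat.of R R))) := by
  classical
  obtain ⟨s, g, hg⟩ := Submodule.fg_iff_exists_fin_generating_family.1 (IsNoetherian.noetherian m)
  let F : ModuleCat.{u} R := ModuleCat.of R (Fin s → R)
  let f : (Fin s → R) →ₗ[R] R := Fintype.linearCombination R g
  have hfr : LinearMap.range f = m := by rw [Fintype.range_linearCombination]; exact hg
  obtain ⟨y, hy⟩ := LocCohBasic.map_surjective_of_supportDim_lt I (M := ModuleCat.of R R) (LinearMap.range f)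
    (by rw [hfr]; exact hm) z
  obtain ⟨x, hx⟩ := LocCohBasic.map_surjective_top I hr (M := F)
    (ModuleCat.ofHom f.rangeRestrict) f.surjective_rangeRestrict y
  have hz : (localCohomology I r).map (ModuleCat.ofHom f : F ⟶ ModuleCat.of R R) x = z := by
    rw [← hy, ← hx, ← ModuleCat.comp_apply, ← Functor.map_comp]; rfl
  have hdec : (ModuleCat.ofHom f : F ⟶ ModuleCat.of R R) =
      ∑ j, ModuleCat.ofHom (LinearMap.proj (R := R) (φ := fun _ : Fin s => R) j) ≫
        ModuleCat.ofHom (LinearMap.lsmul R R (g j)) := by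
    ext v
    simp [f, Fintype.linearCombination_apply, mul_comm]
  rw [← hz, hdec, Functor.map_sum]
  simp only [ModuleCat.hom_sum, LinearMap.sum_apply, Functor.map_comp, ModuleCat.comp_apply]
  refine Submodule.sum_mem _ fun j _ => ?_
  rw [LocCohBasic.map_lsmul I (ModuleCat.of R R) (g j)]
  exact Submodule.smul_mem_smul (hg ▸ Submodule.subset_span ⟨j, rfl⟩) trivial

variable {R : Type u} [CommRing R] (𝒜 : ℤ → AddSubgroup R) [GradedRing 𝒜]

theorem isMaximal_pos (hpos : ∀ n : ℤ, n < 0 → 𝒜 n = ⊥) (h0 : IsField (GrLC.deg0 𝒜))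
    (m : HomogeneousIdeal 𝒜) (hm : GrLC.IsStarLocal 𝒜 m)
    (hmsp : m.toIdeal = Ideal.span (⋃ n ∈ Set.Ioi (0 : ℤ), (𝒜 n : Set R))) : m.toIdeal.IsMaximal := by
  have hne : m.toIdeal ≠ ⊤ := fun h => hm.1.1 (HomogeneousIdeal.toIdeal_injective (by rw [h]; rfl))
  refine Ideal.isMaximal_iff.2 ⟨fun h => hne ((Ideal.eq_top_iff_one _).2 h), fun J x hJ hxm hxJ => ?_⟩
  have hsub : ∀ y : R, y - proj 𝒜 0 y ∈ m.toIdeal := by
    intro y
    induction y using Decomposition.inductionOn 𝒜 with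
    | zero => simp
    | @homogeneous k a =>
      rcases lt_trichotomy k 0 with hk | rfl | hk
      · have ha : (a : R) = 0 := by simpa [hpos k hk] using a.2
        simp [ha]
      · simp [proj_of_mem 𝒜 a.2]
      · rw [proj_of_mem_ne 𝒜 a.2 (ne_of_gt hk), sub_zero, hmsp]
        exact Ideal.subset_span (Set.mem_biUnion (Set.mem_Ioi.2 hk) a.2)
    | add a b ha hb => rw [map_add, add_sub_add_comm]; exact add_mem ha hb
  have hx0 : proj 𝒜 0 x ≠ 0 := fun h => hxm (by simpa [h] using hsub x)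
  obtain ⟨c, hc⟩ := h0.mul_inv_cancel (a := (⟨proj 𝒜 0 x, proj_mem 𝒜 0 x⟩ : GrLC.deg0 𝒜))
    (fun h => hx0 (congrArg Subtype.val h))
  have h1 : proj 𝒜 0 x ∈ J := by simpa using J.sub_mem hxJ (hJ (hsub x))
  have h2 := J.mul_mem_right (c : R) h1
  have h3 : proj 𝒜 0 x * (c : R) = 1 := congrArg Subtype.val hc
  rwa [h3] at h2

theorem Hgr_eq_bot_succ [IsNoetherianRing R] (hpos : ∀ n : ℤ, n < 0 → 𝒜 n = ⊥) (h0 : IsField (GrLC.deg0 𝒜))
    (m : HomogeneousIdeal 𝒜) (hm : GrLC.IsStarLocal 𝒜 m)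
    (hmsp : m.toIdeal = Ideal.span (⋃ n ∈ Set.Ioi (0 : ℤ), (𝒜 n : Set R)))
    (hstd : Ideal.span (⋃ n ∈ Set.Ioi (0 : ℤ), (𝒜 n : Set R)) = Ideal.span ((𝒜 1 : AddSubgroup R) : Set R))
    (r : ℕ) (hr : ringKrullDim R = r) (h1 : 1 ≤ r) (E : GrLC.StarInjRes 𝒜 𝒜) (n : ℤ)
    (hn : E.Hgr m r n = ⊥) : E.Hgr m r (n + 1) = ⊥ := by
  classical
  haveI := isMaximal_pos 𝒜 hpos h0 m hm hmsp
  haveI : SetLike.GradedSMul 𝒜 (E.Hgr m r) := ⟨fun {i j} a b ha hb => by
    obtain ⟨z, hz, rfl⟩ := hb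
    exact ⟨a • z, SetLike.GradedSMul.smul_mem ha hz, map_smul _ _ _⟩⟩
  letI : Decomposition (E.Hgr m r) := (isInternal_Hgr E m r).chooseDecomposition
  have hdim : Module.supportDim R (R ⧸ m.toIdeal) < (r : WithBot ℕ∞) := by
    rw [Module.supportDim_quotient_eq_ringKrullDim]
    letI := Ideal.Quotient.field m.toIdeal
    rw [ringKrullDim_eq_zero_of_field]
    exact_mod_cast h1
  obtain ⟨e⟩ := nonempty_H_equiv E m r
  refine (AddSubgroup.eq_bot_iff_forall _).2 fun x hx => ?_
  have hmem : x ∈ m.toIdeal • (⊤ : Submodule R (E.H m r)) := by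
    have h := Submodule.mem_map_of_mem (f := e.symm.toLinearMap)
      (mem_smul_top_of_pos m.toIdeal m.toIdeal r hr hdim (e x))
    rw [Submodule.map_smul''] at h
    rw [LinearEquiv.coe_coe, LinearEquiv.symm_apply_apply] at h
    exact Submodule.smul_mono le_rfl le_top h
  have hgs : ∀ a ∈ 𝒜 1, ∀ y : E.H m r, proj (E.Hgr m r) (n + 1) (a • y) = 0 := by
    intro a ha y
    rw [show n + 1 = 1 + n from add_comm _ _, proj_smul (𝒜 := 𝒜) ha n y]
    have h := proj_mem (E.Hgr m r) n y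
    rw [hn, AddSubgroup.mem_bot] at h
    rw [h, smul_zero]
  have key : ∀ y ∈ m.toIdeal • (⊤ : Submodule R (E.H m r)), proj (E.Hgr m r) (n + 1) y = 0 := by
    rw [hmsp, hstd]
    intro y hy
    refine Submodule.smul_induction_on hy (fun a ha w hw => ?_) (fun a b ha hb => by rw [map_add, ha, hb, add_zero])
    clear hw
    induction ha using Submodule.span_induction generalizing w with
    | mem a ha => exact hgs a ha w
    | zero => rw [zero_smul, map_zero]
    | add a b _ _ ha hb => rw [add_smul, map_add, ha w, hb w, add_zero]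
    | smul c a _ ha => rw [smul_eq_mul, mul_comm, mul_smul]; exact ha (c • w)
  have h := key x hmem
  rwa [proj_of_mem (E.Hgr m r) hx] at h

end Groth.Agent.GrTopLib
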